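import Mathlib
import Groth.Prelude.Def_W4bk4goldsch23FF

/-! # Finitely generated fields of transcendence degree one are function fields over their constants -/

set_option autoImplicit false
universe u

namespace Groth.Agent.Lib.Helper18.NormCurve

open IntermediateField Polynomial
open scoped IntermediateField.algebraAdjoinAdjoin

variable {k K : Type u} [Field k] [Field K] [Algebra k K]

theorem exists_transcendental (htr : Algebra.trdeg k K = 1) : ∃ x : K, Transcendental k x := by
  have h : Algebra.Transcendental k K :=
    trdeg_ne_zero_iff.mp (by rw [htr]; exact one_ne_zero)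
  exact h.transcendental

theorem isAlgebraic_adjoin (htr : Algebra.trdeg k K = 1) {y : K} (hy : Transcendental k y) :
    Algebra.IsAlgebraic k⟮y⟯ K := by
  have hai : AlgebraicIndependent k (fun _ : PUnit.{u + 1} => y) :=
    algebraicIndependent_unique_type_iff.mpr hy
  have htb : IsTranscendenceBasis k (fun _ : PUnit.{u + 1} => y) :=
    AlgebraicIndependent.isTranscendenceBasis_of_trdeg_le_of_finite hai (by rw [htr]; simp)
  have h := htb.isAlgebraic_field
  have hr : Set.range (fun _ : PUnit.{u + 1} => y) = {y} := by
    ext z; simp [eq_comm]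
  rwa [hr] at h

theorem finite_adjoin [Algebra.EssFiniteType k K] (htr : Algebra.trdeg k K = 1) {y : K}
    (hy : Transcendental k y) : Module.Finite k⟮y⟯ K := by
  haveI := isAlgebraic_adjoin htr hy
  haveI : Algebra.EssFiniteType k⟮y⟯ K := Algebra.EssFiniteType.of_comp k k⟮y⟯ K
  exact Algebra.finite_of_essFiniteType_of_isAlgebraic

/-- Elements algebraic over `k` that are `k`-linearly independent stay linearly independent over
`k[y]` for a transcendental `y`. -/
theorem linearIndependent_adjoin {y : K} (hy : Transcendental k y) {ι : Type*} [Fintype ι]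
    (b : ι → algebraicClosure k K) (hb : LinearIndependent k b) :
    LinearIndependent (Algebra.adjoin k ({y} : Set K)) (fun i => ((b i : K))) := by
  classical
  rw [Fintype.linearIndependent_iff]
  intro g hg i
  have hy' : Transcendental (algebraicClosure k K) y := hy.algebraicClosure
  have hrange : ∀ a : Algebra.adjoin k ({y} : Set K), ∃ p : k[X], aeval y p = (a : K) := by
    intro a
    have h2 : (a : K) ∈ (aeval (R := k) y).range := by
      rw [← Algebra.adjoin_singleton_eq_range_aeval]; exact a.2
    exact h2
  choose p hp using hrange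
  set Q : (algebraicClosure k K)[X] :=
    ∑ j, C (b j) * (p (g j)).map (algebraMap k (algebraicClosure k K)) with hQ
  have hQ0 : aeval y Q = 0 := by
    rw [hQ, map_sum]
    rw [← hg]
    refine Finset.sum_congr rfl fun j _ => ?_
    rw [map_mul, aeval_C, aeval_map_algebraMap, hp]
    show (b j : K) * ((g j : Algebra.adjoin k ({y} : Set K)) : K) = g j • (b j : K)
    rw [mul_comm]; rfl
  have hQz : Q = 0 := by
    by_contra hne
    exact hy' ⟨Q, hne, hQ0⟩
  have hcoef : ∀ n : ℕ, ∀ j, (p (g j)).coeff n = 0 := by
    intro n
    have h1 : ∑ j, (p (g j)).coeff n • b j = 0 := by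
      have := congrArg (fun q => Polynomial.coeff q n) hQz
      simp only [hQ, Polynomial.finset_sum_coeff, Polynomial.coeff_C_mul, Polynomial.coeff_map,
        Polynomial.coeff_zero] at this
      rw [← this]
      refine Finset.sum_congr rfl fun j _ => ?_
      rw [Algebra.smul_def, mul_comm]
    exact Fintype.linearIndependent_iff.mp hb _ h1
  have hpz : p (g i) = 0 := Polynomial.ext fun n => by rw [hcoef n i, Polynomial.coeff_zero]
  apply Subtype.ext
  rw [← hp, hpz, map_zero]; rfl

theorem finite_algebraicClosure [Algebra.EssFiniteType k K] (htr : Algebra.trdeg k K = 1) :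
    Module.Finite k (algebraicClosure k K) := by
  classical
  obtain ⟨y, hy⟩ := exists_transcendental htr
  haveI := finite_adjoin htr hy
  have hle : Module.rank k (algebraicClosure k K) ≤ (Module.finrank k⟮y⟯ K : ℕ) := by
    apply rank_le
    intro s hs
    have h1 := linearIndependent_adjoin hy (fun i : s => (i : algebraicClosure k K)) hs
    have h2 : LinearIndependent k⟮y⟯ (fun i : s => (((i : algebraicClosure k K)) : K)) :=
      (LinearIndependent.iff_fractionRing (Algebra.adjoin k ({y} : Set K)) k⟮y⟯).mp h1
    have h3 := h2.fintype_card_le_finrank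
    rwa [Fintype.card_coe] at h3
  exact Module.rank_lt_aleph0_iff.mp (hle.trans_lt (Cardinal.nat_lt_aleph0 _))

theorem trdeg_algebraicClosure (htr : Algebra.trdeg k K = 1) :
    Algebra.trdeg (algebraicClosure k K) K = 1 := by
  have h := trdeg_add_eq k (algebraicClosure k K) (A := K)
  rw [trdeg_eq_zero (R := k) (A := algebraicClosure k K), zero_add] at h
  rw [h, htr]

theorem isFunctionField_algebraicClosure [Algebra.EssFiniteType k K]
    (htr : Algebra.trdeg k K = 1) : FunFld.IsFunctionField (algebraicClosure k K) K := by
  obtain ⟨y, hy⟩ := exists_transcendental htr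
  have hy' : Transcendental (algebraicClosure k K) y := hy.algebraicClosure
  haveI : Algebra.EssFiniteType (algebraicClosure k K) K :=
    Algebra.EssFiniteType.of_comp k (algebraicClosure k K) K
  refine ⟨⟨y, hy', finite_adjoin (trdeg_algebraicClosure htr) hy'⟩, fun z hz => ?_⟩
  have hz' : IsAlgebraic k z := hz.restrictScalars k
  exact ⟨⟨z, mem_algebraicClosure_iff.mpr hz'⟩, rfl⟩

end Groth.Agent.Lib.Helper18.NormCurve
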