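import Groth.Agent.Lib.Helper18.FF.Embedding
import Groth.Agent.Lib.Helper18.FF.RiemannRoch
import Groth.Agent.Lib.Helper18.FF.FiniteExt
import Groth.Agent.Lib.Helper18.FF.Degree3
import Groth.Agent.Lib.Helper24.FFExt.Unram

/-! # Finiteness of the integral closure of `k[y]` in a function field of one variable -/

set_option autoImplicit false
set_option linter.style.haveILetI false

namespace Groth.Agent.Lib.Helper18.NormCurve

open FunFld WithZero Groth.Agent.Lib.Helper18.FF

universe u v w

variable {F : Type v} {K : Type w} [Field F] [Field K] [Algebra F K]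

theorem deg_poleDiv_pos (hK : IsFunctionField F K) {y : K} (hy : Transcendental F y) :
    1 ≤ (poleDiv (k := F) y).deg := by
  rw [deg_poleDiv_eq hK hy]
  haveI := finiteDimensional_adjoin_of_transcendental hK hy
  have : 0 < Module.finrank (IntermediateField.adjoin F ({y} : Set K)) K := Module.finrank_pos
  exact_mod_cast this

theorem self_mem_L_poleDiv (hK : IsFunctionField F K) (y : K) : y ∈ L (poleDiv (k := F) y) :=
  fun P => val_le_exp_poleDiv hK y P

theorem div_eq_neg_poleDiv (hK : IsFunctionField F K) (y : K) (R : Place F K)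
    (h : 0 < poleDiv (k := F) y R) : FunFld.div F y R = - poleDiv (k := F) y R := by
  rw [div_apply hK, poleDiv_apply hK] at *
  omega

theorem ell_nsmul_poleDiv (hK : IsFunctionField F K) {y : K} (hy : Transcendental F y) {m : ℕ}
    (hm : 2 * genus F K ≤ m) :
    (ell (m • poleDiv (k := F) y) : ℤ) = m * (poleDiv (k := F) y).deg + 1 - genus F K := by
  have hd := deg_poleDiv_pos hK hy
  have h := ell_eq_of_deg_ge hK (m • poleDiv (k := F) y) (by
    rw [deg_nsmul]
    have : (2 * genus F K : ℤ) ≤ m := by exact_mod_cast hm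
    nlinarith)
  rw [h, deg_nsmul]

/-- For large `n`, `L((n+2)D) = L((n+1)D) + y L((n+1)D)` where `D` is the pole divisor of `y`. -/
theorem pencil_poleDiv (hK : IsFunctionField F K) {y : K} (hy : Transcendental F y) {n : ℕ}
    (hn : 2 * genus F K ≤ n) {z : K} (hz : z ∈ L ((n + 2) • poleDiv (k := F) y)) :
    ∃ a ∈ L ((n + 1) • poleDiv (k := F) y), ∃ b ∈ L ((n + 1) • poleDiv (k := F) y),
      z = a + y * b := by
  have hy0 : y ≠ 0 := fun h => hy (h ▸ isAlgebraic_zero)
  refine pencil_step hK (poleDiv_nonneg y) hy0 (self_mem_L_poleDiv hK y)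
    (fun R hR => div_eq_neg_poleDiv hK y R hR) ?_ hz
  have h0 := ell_nsmul_poleDiv hK hy hn
  have h1 := ell_nsmul_poleDiv hK hy (m := n + 1) (by omega)
  have h2 := ell_nsmul_poleDiv hK hy (m := n + 2) (by omega)
  have : (ell ((n + 2) • poleDiv (k := F) y) : ℤ) + ell (n • poleDiv (k := F) y) ≤
      2 * ell ((n + 1) • poleDiv (k := F) y) := by
    rw [h0, h1, h2]; push_cast; linarith
  exact_mod_cast this

variable {k : Type u} [Field k] [Algebra k F] [Algebra k K] [IsScalarTower k F K]

/-- All `L(mD)` lie in the `k[y]`-span of `L((2g+1)D)`. -/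
theorem L_nsmul_le_span (hK : IsFunctionField F K) {y : K} (hy : Transcendental F y) (m : ℕ) :
    (L (m • poleDiv (k := F) y) : Set K) ⊆
      Submodule.span (Algebra.adjoin k ({y} : Set K))
        (L ((2 * genus F K + 1) • poleDiv (k := F) y) : Set K) := by
  set D := poleDiv (k := F) y with hD
  set n₁ := 2 * genus F K + 1 with hn₁
  have hD0 : 0 ≤ D := poleDiv_nonneg y
  have hmono : ∀ a b : ℕ, a ≤ b → a • D ≤ b • D := fun a b hab P => by
    rw [Finsupp.smul_apply, Finsupp.smul_apply]
    have := hD0 P
    simp only [Finsupp.coe_zero, Pi.zero_apply] at this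
    exact nsmul_le_nsmul_left this hab
  induction m using Nat.strong_induction_on with
  | _ m ih =>
    rcases Nat.lt_or_ge m (n₁ + 1) with hlt | hge
    · intro z hz
      exact Submodule.subset_span (L_mono (hmono m n₁ (by omega)) hz)
    · obtain ⟨n, rfl⟩ : ∃ n, m = n + 2 := ⟨m - 2, by omega⟩
      intro z hz
      obtain ⟨a, ha, b, hb, rfl⟩ := pencil_poleDiv hK hy (n := n) (by omega) hz
      have iha := ih (n + 1) (by omega) ha
      have ihb := ih (n + 1) (by omega) hb
      refine Submodule.add_mem _ iha ?_
      have := Submodule.smul_mem _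
        (⟨y, Algebra.self_mem_adjoin_singleton k y⟩ : Algebra.adjoin k ({y} : Set K)) ihb
      exact this

theorem val_adjoin_le_one (P : Place F K) {y : K} (hy : P.1 y ≤ 1)
    (a : Algebra.adjoin k ({y} : Set K)) : P.1 (a : K) ≤ 1 := by
  obtain ⟨a, ha⟩ := a
  show P.1 a ≤ 1
  induction ha using Algebra.adjoin_induction with
  | mem x hx =>
    rw [Set.mem_singleton_iff] at hx; rw [hx]; exact hy
  | algebraMap c =>
    rw [IsScalarTower.algebraMap_apply k F K]
    exact P.2.1 _
  | add x z _ _ hx hz => exact (P.1.map_add x z).trans (max_le hx hz)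
  | mul x z _ _ hx hz => rw [map_mul]; exact mul_le_one' hx hz

/-- An element integral over `k[y]` has poles only at the poles of `y`. -/
theorem exists_mem_L_of_isIntegral (hK : IsFunctionField F K) {y : K} {z : K}
    (hz : IsIntegral (Algebra.adjoin k ({y} : Set K)) z) :
    ∃ m : ℕ, z ∈ L (m • poleDiv (k := F) y) := by
  classical
  set D := poleDiv (k := F) y with hD
  refine ⟨∑ P ∈ D.support, (poleDiv (k := F) z P).toNat, fun P => ?_⟩
  rw [Finsupp.smul_apply]
  by_cases hP : D P = 0
  · rw [hP, smul_zero, exp_zero]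
    have hyP : P.1 y ≤ 1 := by
      have := val_le_exp_poleDiv hK y P
      rwa [← hD, hP, exp_zero] at this
    exact Groth.Agent.Lib.Helper24.FFExt.val_le_one_of_isIntegral_ring P.1
      (fun a => val_adjoin_le_one P hyP a) hz
  · have hPs : P ∈ D.support := Finsupp.mem_support_iff.mpr hP
    have hDP : 1 ≤ D P := by
      have := poleDiv_nonneg (k := F) y P
      simp only [Finsupp.coe_zero, Pi.zero_apply] at this
      rw [← hD] at this
      omega
    refine (val_le_exp_poleDiv hK z P).trans (exp_le_exp.mpr ?_)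
    have h1 : (poleDiv (k := F) z P).toNat ≤ ∑ Q ∈ D.support, (poleDiv (k := F) z Q).toNat :=
      Finset.single_le_sum (f := fun Q => (poleDiv (k := F) z Q).toNat)
        (fun _ _ => Nat.zero_le _) hPs
    have h2 : poleDiv (k := F) z P ≤ ((poleDiv (k := F) z P).toNat : ℤ) := Int.self_le_toNat _
    have h3 : ((∑ Q ∈ D.support, (poleDiv (k := F) z Q).toNat : ℕ) : ℤ) ≤
        (∑ Q ∈ D.support, (poleDiv (k := F) z Q).toNat) • D P := by
      rw [nsmul_eq_mul]
      have h4 : (0 : ℤ) ≤ ((∑ Q ∈ D.support, (poleDiv (k := F) z Q).toNat : ℕ) : ℤ) :=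
        Int.natCast_nonneg _
      nlinarith
    have h5 : ((poleDiv (k := F) z P).toNat : ℤ) ≤
        ((∑ Q ∈ D.support, (poleDiv (k := F) z Q).toNat : ℕ) : ℤ) := by exact_mod_cast h1
    linarith

/-- The integral closure of `k[y]` in a function field of one variable `K/F`, `[F : k] < ∞`, is a
finite `k[y]`-module. -/
theorem integralClosure_adjoin_fg [Module.Finite k F] (hK : IsFunctionField F K) {y : K}
    (hy : Transcendental F y) :
    (Subalgebra.toSubmodule (integralClosure (Algebra.adjoin k ({y} : Set K)) K)).FG := by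
  classical
  set A := Algebra.adjoin k ({y} : Set K) with hA
  haveI : Algebra.FiniteType k A := by
    rw [← Subalgebra.fg_iff_finiteType]
    have := Subalgebra.fg_adjoin_finset (R := k) ({y} : Finset K)
    rwa [Finset.coe_singleton] at this
  haveI : IsNoetherianRing A := Algebra.FiniteType.isNoetherianRing k A
  set L' := L ((2 * genus F K + 1) • poleDiv (k := F) y) with hL'
  haveI : FiniteDimensional F L' := finiteDimensional_L hK _
  haveI : Module.Finite k L' := Module.Finite.trans F L'
  have hfgk : (LinearMap.range ((L'.subtype).restrictScalars k)).FG := by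
    rw [LinearMap.range_eq_map]
    exact (Module.finite_def.mp ‹Module.Finite k L'›).map _
  have hcar : ((LinearMap.range ((L'.subtype).restrictScalars k) : Submodule k K) : Set K) =
      (L' : Set K) := by
    ext z
    simp
  obtain ⟨T, hT⟩ := hfgk
  set M := Submodule.span A (L' : Set K) with hM
  have hMfg : M.FG := by
    have h1 : (L' : Set K) = ((Submodule.span k (T : Set K) : Submodule k K) : Set K) := by
      rw [hT, hcar]
    rw [hM, h1, Submodule.span_span_of_tower k A]
    exact Submodule.fg_span T.finite_toSet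
  haveI : IsNoetherian A M := isNoetherian_of_fg_of_noetherian M hMfg
  refine isNoetherian_submodule.mp ‹IsNoetherian A M› _ ?_
  intro z hz
  have hz' : IsIntegral A z := hz
  obtain ⟨m, hm⟩ := exists_mem_L_of_isIntegral (k := k) hK hz'
  exact L_nsmul_le_span hK hy m hm

end Groth.Agent.Lib.Helper18.NormCurve
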