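import Groth.Agent.Lib.Helper18.NormCurve.Field
import Groth.Agent.Lib.Helper18.NormCurve.IntClosure

/-! # Integral closure of a finitely generated algebra in a function field of one variable -/

set_option autoImplicit false
set_option linter.style.haveILetI false
universe u v

namespace Groth.Agent.Lib.Helper18.NormCurve

open IntermediateField

variable {k K : Type u} [Field k] [Field K] [Algebra k K]

theorem integralClosure_adjoin_fg' [Algebra.EssFiniteType k K] (htr : Algebra.trdeg k K = 1)
    {y : K} (hy : Transcendental k y) :
    (Subalgebra.toSubmodule (integralClosure (Algebra.adjoin k ({y} : Set K)) K)).FG := by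
  haveI := finite_algebraicClosure htr
  exact integralClosure_adjoin_fg (F := algebraicClosure k K)
    (isFunctionField_algebraicClosure htr) hy.algebraicClosure

theorem isIntegral_iff_of_le {S₁ S₂ : Subalgebra k K} (h : S₁ ≤ S₂)
    (hint : ∀ a : S₂, IsIntegral S₁ (a : K)) (s : K) :
    IsIntegral S₁ s ↔ IsIntegral S₂ s := by
  letI : Algebra S₁ S₂ := (Subalgebra.inclusion h).toRingHom.toAlgebra
  haveI : IsScalarTower S₁ S₂ K := IsScalarTower.of_algebraMap_eq (fun x => rfl)
  constructor
  · intro hs
    exact hs.tower_top
  · intro hs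
    haveI : Algebra.IsIntegral S₁ S₂ :=
      ⟨fun a => (isIntegral_algebraMap_iff (B := K) Subtype.val_injective).mp (hint a)⟩
    exact isIntegral_trans s hs

variable {R : Type v} [CommRing R] [Algebra k R] [Algebra R K] [IsScalarTower k R K]

theorem isIntegral_range_iff (s : K) :
    IsIntegral R s ↔ IsIntegral (IsScalarTower.toAlgHom k R K).range s := by
  letI : Algebra R (IsScalarTower.toAlgHom k R K).range :=
    (IsScalarTower.toAlgHom k R K).rangeRestrict.toRingHom.toAlgebra
  haveI : IsScalarTower R (IsScalarTower.toAlgHom k R K).range K :=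
    IsScalarTower.of_algebraMap_eq (fun x => rfl)
  constructor
  · intro hs
    exact hs.tower_top
  · intro hs
    haveI : Algebra.IsIntegral R (IsScalarTower.toAlgHom k R K).range :=
      Algebra.isIntegral_of_surjective (IsScalarTower.toAlgHom k R K).rangeRestrict_surjective
    exact isIntegral_trans s hs

/-- Noether normalization for a finitely generated subalgebra of `K` containing a transcendental
element: it is integral over `k[t]` for a suitable transcendental `t` in it. -/
theorem exists_adjoin_of_fg (htr : Algebra.trdeg k K = 1) (S : Subalgebra k K)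
    [Algebra.FiniteType k S] {z : K} (hzS : z ∈ S) (hz : Transcendental k z) :
    ∃ t : K, Transcendental k t ∧ Algebra.adjoin k ({t} : Set K) ≤ S ∧
      ∀ a : S, IsIntegral (Algebra.adjoin k ({t} : Set K)) (a : K) := by
  classical
  obtain ⟨s, g, hinj, hfin⟩ := exists_finite_inj_algHom_of_fg k S
  have hinj' : Function.Injective (S.val.comp g) := Subtype.val_injective.comp hinj
  have hai : AlgebraicIndependent k (fun i : Fin s => ((g (MvPolynomial.X i) : S) : K)) :=
    (MvPolynomial.algebraicIndependent_X (Fin s) k).map' (f := S.val.comp g) hinj'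
  have hs1 : s ≤ 1 := by
    have hle := hai.lift_cardinalMk_le_trdeg
    rw [htr] at hle
    simpa using hle
  have hs0 : s ≠ 0 := by
    rintro rfl
    algebraize [g.toRingHom]
    haveI : Module.Finite (MvPolynomial (Fin 0) k) S := hfin
    haveI : Module.Finite k (MvPolynomial (Fin 0) k) :=
      Module.Finite.equiv (MvPolynomial.isEmptyAlgEquiv k (Fin 0)).symm.toLinearEquiv
    haveI : Module.Finite k S := Module.Finite.trans (MvPolynomial (Fin 0) k) S
    have h1 : IsIntegral k (⟨z, hzS⟩ : S) := Algebra.IsIntegral.isIntegral _
    have h2 : IsAlgebraic k ((algebraMap S K) ⟨z, hzS⟩) := h1.isAlgebraic.algebraMap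
    exact hz h2
  obtain rfl : s = 1 := by omega
  set t : K := ((g (MvPolynomial.X 0) : S) : K) with ht
  have htS : t ∈ S := (g (MvPolynomial.X 0)).2
  refine ⟨t, hai.transcendental 0, Algebra.adjoin_le (by simpa using htS), fun a => ?_⟩
  let tA : Algebra.adjoin k ({t} : Set K) := ⟨t, Algebra.self_mem_adjoin_singleton k t⟩
  let φ : MvPolynomial (Fin 1) k →+* Algebra.adjoin k ({t} : Set K) :=
    (MvPolynomial.aeval (fun _ => tA)).toRingHom
  letI : Algebra (MvPolynomial (Fin 1) k) S := g.toRingHom.toAlgebra
  have hint : IsIntegral (MvPolynomial (Fin 1) k) a := (RingHom.Finite.to_isIntegral hfin) a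
  have hcomp : (algebraMap (Algebra.adjoin k ({t} : Set K)) K).comp φ =
      (algebraMap S K).comp (algebraMap (MvPolynomial (Fin 1) k) S) := by
    apply MvPolynomial.ringHom_ext
    · intro c
      show algebraMap (Algebra.adjoin k ({t} : Set K)) K
          (MvPolynomial.aeval (fun _ => tA) (MvPolynomial.C c)) =
        algebraMap S K (g (MvPolynomial.C c))
      rw [MvPolynomial.aeval_C, ← MvPolynomial.algebraMap_eq, AlgHom.commutes,
        ← IsScalarTower.algebraMap_apply, ← IsScalarTower.algebraMap_apply]
    · intro i
      show algebraMap (Algebra.adjoin k ({t} : Set K)) K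
          (MvPolynomial.aeval (fun _ => tA) (MvPolynomial.X i)) =
        algebraMap S K (g (MvPolynomial.X i))
      rw [MvPolynomial.aeval_X, Fin.eq_zero i]
      rfl
  exact IsIntegral.map_of_comp_eq φ (algebraMap S K) hcomp hint

section Adjoin

open scoped IntermediateField.algebraAdjoinAdjoin

theorem isAlgebraic_algebraAdjoin (htr : Algebra.trdeg k K = 1) {t : K} (ht : Transcendental k t) :
    Algebra.IsAlgebraic (Algebra.adjoin k ({t} : Set K)) K := by
  haveI := isAlgebraic_adjoin htr ht
  constructor
  intro x
  exact (IsFractionRing.isAlgebraic_iff (Algebra.adjoin k ({t} : Set K)) k⟮t⟯ K).mpr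
    (Algebra.IsAlgebraic.isAlgebraic x)

theorem dimensionLEOne_adjoin {t : K} (ht : Transcendental k t) :
    Ring.DimensionLEOne (Algebra.adjoin k ({t} : Set K)) := by
  haveI : Ring.DimensionLEOne (Polynomial k) := Ring.DimensionLEOne.principal_ideal_ring _
  exact Ring.DimensionLEOne.of_ringEquiv (Polynomial.algEquivOfTranscendental k t ht).symm.toRingEquiv

theorem not_isField_adjoin {t : K} (ht : Transcendental k t) :
    ¬ IsField (Algebra.adjoin k ({t} : Set K)) := fun h =>
  Polynomial.not_isField k
    ((Polynomial.algEquivOfTranscendental k t ht).toRingEquiv.toMulEquiv.isField h)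

end Adjoin

section Main

variable [Algebra.FiniteType k R]

/-- Reduction of integrality over `R` to integrality over a polynomial subring `k[t]` of `K`. -/
theorem exists_adjoin_isIntegral_iff (htr : Algebra.trdeg k K = 1) (r : R)
    (hr : Transcendental k (algebraMap R K r)) :
    ∃ t : K, Transcendental k t ∧
      Algebra.adjoin k ({t} : Set K) ≤ (IsScalarTower.toAlgHom k R K).range ∧
      ∀ s : K, IsIntegral R s ↔ IsIntegral (Algebra.adjoin k ({t} : Set K)) s := by
  haveI : Algebra.FiniteType k (IsScalarTower.toAlgHom k R K).range :=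
    Algebra.FiniteType.of_surjective (IsScalarTower.toAlgHom k R K).rangeRestrict
      (IsScalarTower.toAlgHom k R K).rangeRestrict_surjective
  obtain ⟨t, ht, hle, hint⟩ := exists_adjoin_of_fg htr (IsScalarTower.toAlgHom k R K).range
    (z := algebraMap R K r) ⟨r, rfl⟩ hr
  refine ⟨t, ht, hle, fun s => ?_⟩
  rw [isIntegral_range_iff (k := k), isIntegral_iff_of_le hle hint]

/-- The ring isomorphism between two integral closures with the same underlying set. -/
def closureEquiv {A : Type*} [CommRing A] [Algebra A K]
    (h : ∀ s : K, IsIntegral R s ↔ IsIntegral A s) :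
    integralClosure R K ≃+* integralClosure A K where
  toFun c := ⟨c, (h c).mp c.2⟩
  invFun c := ⟨c, (h c).mpr c.2⟩
  left_inv _ := rfl
  right_inv _ := rfl
  map_mul' _ _ := rfl
  map_add' _ _ := rfl

variable [Algebra.EssFiniteType k K]

theorem finite_integralClosure (htr : Algebra.trdeg k K = 1) (r : R)
    (hr : Transcendental k (algebraMap R K r)) : Module.Finite R (integralClosure R K) := by
  classical
  obtain ⟨t, ht, hle, hiff⟩ := exists_adjoin_isIntegral_iff htr r hr
  obtain ⟨T, hT⟩ := integralClosure_adjoin_fg' htr ht
  suffices h : (Subalgebra.toSubmodule (integralClosure R K)).FG from Module.Finite.iff_fg.mpr h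
  refine ⟨T, le_antisymm ?_ ?_⟩
  · rw [Submodule.span_le]
    intro x hx
    have hx' : x ∈ Subalgebra.toSubmodule (integralClosure (Algebra.adjoin k ({t} : Set K)) K) := by
      rw [← hT]; exact Submodule.subset_span hx
    exact (hiff x).mpr hx'
  · intro x hx
    have hx' : x ∈ Submodule.span (Algebra.adjoin k ({t} : Set K)) (T : Set K) := by
      rw [hT]; exact (hiff x).mp hx
    clear hx
    induction hx' using Submodule.span_induction with
    | mem y hy => exact Submodule.subset_span hy
    | zero => exact Submodule.zero_mem _
    | add y z _ _ hy hz => exact Submodule.add_mem _ hy hz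
    | smul a y _ hy =>
      obtain ⟨r', hr'⟩ := hle a.2
      have : a • y = r' • y := by
        rw [Algebra.smul_def r' y]
        show (a : K) * y = _
        rw [← hr']; rfl
      rw [this]
      exact Submodule.smul_mem _ _ hy

theorem dimensionLEOne_integralClosure (htr : Algebra.trdeg k K = 1) (r : R)
    (hr : Transcendental k (algebraMap R K r)) : Ring.DimensionLEOne (integralClosure R K) := by
  obtain ⟨t, ht, hle, hiff⟩ := exists_adjoin_isIntegral_iff htr r hr
  haveI := dimensionLEOne_adjoin ht
  exact Ring.DimensionLEOne.of_ringEquiv (closureEquiv hiff)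

theorem not_isField_integralClosure (htr : Algebra.trdeg k K = 1) (r : R)
    (hr : Transcendental k (algebraMap R K r)) : ¬ IsField (integralClosure R K) := by
  obtain ⟨t, ht, hle, hiff⟩ := exists_adjoin_isIntegral_iff htr r hr
  intro hf
  have hf' : IsField (integralClosure (Algebra.adjoin k ({t} : Set K)) K) :=
    (closureEquiv hiff).symm.toMulEquiv.isField hf
  refine not_isField_adjoin ht (isField_of_isIntegral_of_isField (S := integralClosure _ K) ?_ hf')
  intro a b hab
  have := congrArg (algebraMap (integralClosure (Algebra.adjoin k ({t} : Set K)) K) K) hab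
  exact Subtype.ext this

theorem isFractionRing_integralClosure (htr : Algebra.trdeg k K = 1) (r : R)
    (hr : Transcendental k (algebraMap R K r)) : IsFractionRing (integralClosure R K) K := by
  obtain ⟨t, ht, hle, hiff⟩ := exists_adjoin_isIntegral_iff htr r hr
  haveI := isAlgebraic_algebraAdjoin htr ht
  haveI : IsFractionRing (integralClosure (Algebra.adjoin k ({t} : Set K)) K) K :=
    integralClosure.isFractionRing_of_algebraic (fun x hx => Subtype.ext hx)
  refine IsFractionRing.of_field _ _ fun z => ?_
  obtain ⟨x, y, -, hxy⟩ :=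
    IsFractionRing.div_surjective (integralClosure (Algebra.adjoin k ({t} : Set K)) K) z
  exact ⟨(closureEquiv hiff).symm x, (closureEquiv hiff).symm y, hxy.symm⟩

end Main

end Groth.Agent.Lib.Helper18.NormCurve
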