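import Mathlib

/-! # Sections of a relative normalization over an affine chart, as an integral closure in a field -/

set_option autoImplicit false
set_option linter.style.haveILetI false
universe u
open CategoryTheory CategoryTheory.Limits AlgebraicGeometry Opposite TopologicalSpace
noncomputable section

namespace Groth.Agent.Lib.Helper18.NormCurve

section Generic

variable {Y Z : Scheme.{u}} (f : Y ⟶ Z) [QuasiCompact f] [QuasiSeparated f]
  {U : Z.Opens} (hU : IsAffineOpen U) {K : Type u} [Field K] (ε : Γ(Y, f ⁻¹ᵁ U) ≃+* K)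

/-- The algebra structure on `K` over `Γ(Z, U)` through `ε`. -/
abbrev chartAlgebra : Algebra Γ(Z, U) K := (ε.toRingHom.comp (f.app U).hom).toAlgebra

/-- The sections of the normalization over a chart, as an integral closure inside `K`. -/
def chartEquiv :
    letI := chartAlgebra f ε
    Γ(f.normalization, f.fromNormalization ⁻¹ᵁ U) ≃+* integralClosure Γ(Z, U) K :=
  letI := (f.app U).hom.toAlgebra
  letI := chartAlgebra f ε
  (f.normalizationObjIso hU).commRingCatIsoToRingEquiv.trans
    (AlgEquiv.mapIntegralClosure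
      (AlgEquiv.ofRingEquiv (f := ε) (fun _ => rfl) : Γ(Y, f ⁻¹ᵁ U) ≃ₐ[Γ(Z, U)] K)).toRingEquiv

theorem chartEquiv_app (a : Γ(Z, U)) :
    letI := chartAlgebra f ε
    ((chartEquiv f hU ε ((f.fromNormalization.app U).hom a) : integralClosure Γ(Z, U) K) : K) =
      ε ((f.app U).hom a) := by
  letI := (f.app U).hom.toAlgebra
  letI := chartAlgebra f ε
  have h := f.fromNormalization_app hU
  have h1 : (f.fromNormalization.app U).hom a =
      (f.normalizationObjIso hU).inv.hom
        (algebraMap Γ(Z, U) (integralClosure Γ(Z, U) Γ(Y, f ⁻¹ᵁ U)) a) :=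
    congrArg (fun ψ => ψ.hom a) h
  have h2 : (f.normalizationObjIso hU).commRingCatIsoToRingEquiv
      ((f.normalizationObjIso hU).inv.hom
        (algebraMap Γ(Z, U) (integralClosure Γ(Z, U) Γ(Y, f ⁻¹ᵁ U)) a)) =
      algebraMap Γ(Z, U) (integralClosure Γ(Z, U) Γ(Y, f ⁻¹ᵁ U)) a :=
    congrArg (fun ψ => ψ.hom (algebraMap Γ(Z, U) (integralClosure Γ(Z, U) Γ(Y, f ⁻¹ᵁ U)) a))
      (f.normalizationObjIso hU).inv_hom_id
  rw [h1]
  show ((AlgEquiv.mapIntegralClosure
      (AlgEquiv.ofRingEquiv (f := ε) (fun _ => rfl) : Γ(Y, f ⁻¹ᵁ U) ≃ₐ[Γ(Z, U)] K))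
      ((f.normalizationObjIso hU).commRingCatIsoToRingEquiv _) : K) = _
  rw [h2, AlgEquiv.coe_mapIntegralClosure]
  rfl

theorem chartEquiv_app' (a : Γ(Z, U)) :
    letI := chartAlgebra f ε
    chartEquiv f hU ε ((f.fromNormalization.app U).hom a) =
      algebraMap Γ(Z, U) (integralClosure Γ(Z, U) K) a := by
  letI := chartAlgebra f ε
  exact Subtype.ext (chartEquiv_app f hU ε a)

include hU in
theorem finite_app_of_finite
    (h : letI := chartAlgebra f ε; Module.Finite Γ(Z, U) (integralClosure Γ(Z, U) K)) :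
    (f.fromNormalization.app U).hom.Finite := by
  letI := chartAlgebra f ε
  have h1 : (f.fromNormalization.app U).hom =
      (chartEquiv f hU ε).symm.toRingHom.comp (algebraMap Γ(Z, U) (integralClosure Γ(Z, U) K)) := by
    ext a
    show _ = (chartEquiv f hU ε).symm (algebraMap Γ(Z, U) (integralClosure Γ(Z, U) K) a)
    rw [← chartEquiv_app' f hU ε a, RingEquiv.symm_apply_apply]
  rw [h1]
  exact RingHom.Finite.comp (RingHom.Finite.of_surjective _ (chartEquiv f hU ε).symm.surjective)
    (RingHom.finite_algebraMap.mpr h)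

end Generic

set_option backward.isDefEq.respectTransparency false in
theorem isFinite_of_cover {X Y : Scheme.{u}} (ν : X ⟶ Y) [IsAffineHom ν] {ι : Type*}
    (U : ι → Y.Opens) (hU : ∀ i, IsAffineOpen (U i)) (hcov : ⨆ i, U i = ⊤)
    (h : ∀ i, (ν.app (U i)).hom.Finite) : IsFinite ν := by
  have h' : ∀ i, ∀ U' : Y.Opens, U' = U i → (ν.app U').hom.Finite := by
    rintro i _ rfl; exact h i
  have key := HasAffineProperty.of_iSup_eq_top (P := @IsFinite) (f := ν)
    (fun i => (⟨U i, hU i⟩ : Y.affineOpens)) hcov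
  apply key
  intro i
  refine ⟨(hU i).preimage ν, ?_⟩
  show RingHom.Finite ((ν ∣_ U i).appTop).hom
  rw [morphismRestrict_appTop, CommRingCat.hom_comp]
  refine RingHom.Finite.comp (RingHom.Finite.of_surjective _ ?_) (h' i _ (by simp))
  exact (ConcreteCategory.bijective_of_isIso (X.presheaf.map (eqToHom _).op)).2

end Groth.Agent.Lib.Helper18.NormCurve
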