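import Groth.Agent.Lib.Helper18.NormCurve.P1
import Groth.Agent.Lib.Helper18.NormCurve.Algebra
import Groth.Agent.Lib.Helper18.NormCurve.Chart
import Groth.Agent.Lib.Helper13.Normalization

/-! # The normal complete curve with a given function field: normalization of `P¹` in `Spec K` -/

set_option autoImplicit false
set_option linter.style.haveILetI false
universe u
open CategoryTheory CategoryTheory.Limits AlgebraicGeometry Opposite TopologicalSpace
noncomputable section

namespace Groth.Agent.Lib.Helper18.NormCurve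

variable (k K : Type u) [Field k] [Field K] [Algebra k K] (x : K)

instance qc_g : QuasiCompact (g k K x) := by
  haveI : IsProper (CohB1.ProjSpace.toSpec 1 k) :=
    Groth.Agent.Lib.Helper28.ProjSpaceBasic.isProper_toSpec 1 k
  haveI : QuasiCompact (g k K x ≫ CohB1.ProjSpace.toSpec 1 k) := by
    rw [g_toSpec]; infer_instance
  exact QuasiCompact.of_comp (g k K x) (CohB1.ProjSpace.toSpec 1 k)

instance qs_g : QuasiSeparated (g k K x) := inferInstance

variable (hx0 : x ≠ 0)

/-- The identification of the sections of `Spec K` over the preimage of a chart with `K`. -/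
abbrev ε (i : Fin 2) : Γ(Spec (CommRingCat.of K), g k K x ⁻¹ᵁ U k i) ≃+* K :=
  secEquiv K _ (g_preimage_U k K x hx0 i)

open Groth.Agent.Lib.Helper18.PtCount in
theorem chart_props [Algebra.EssFiniteType k K] (htr : Algebra.trdeg k K = 1)
    (hx : Transcendental k x) (i : Fin 2) :
    letI := chartAlgebra (g k K x) (ε k K x hx0 i)
    Module.Finite Γ(CohB1.ProjSpace 1 k, U k i) (integralClosure Γ(CohB1.ProjSpace 1 k, U k i) K) ∧
    Ring.DimensionLEOne (integralClosure Γ(CohB1.ProjSpace 1 k, U k i) K) ∧
    ¬ IsField (integralClosure Γ(CohB1.ProjSpace 1 k, U k i) K) ∧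
    IsFractionRing (integralClosure Γ(CohB1.ProjSpace 1 k, U k i) K) K := by
  letI := chartAlgebra (g k K x) (ε k K x hx0 i)
  haveI : IsProper (CohB1.ProjSpace.toSpec 1 k) :=
    Groth.Agent.Lib.Helper28.ProjSpaceBasic.isProper_toSpec 1 k
  letI : Algebra k Γ(CohB1.ProjSpace 1 k, U k i) :=
    (cU (CohB1.ProjSpace.toSpec 1 k) (U k i)).toAlgebra
  haveI : IsScalarTower k Γ(CohB1.ProjSpace 1 k, U k i) K :=
    IsScalarTower.of_algebraMap_eq (fun c => (φ_cU k K x hx0 i c).symm)
  haveI : Algebra.FiniteType k Γ(CohB1.ProjSpace 1 k, U k i) :=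
    finiteType_cU (CohB1.ProjSpace.toSpec 1 k) (isAffineOpen_U k i)
  obtain ⟨s, hs⟩ := exists_transcendental_φ k K x hx hx0 i
  have hs' : Transcendental k (algebraMap Γ(CohB1.ProjSpace 1 k, U k i) K s) := hs
  exact ⟨finite_integralClosure htr s hs', dimensionLEOne_integralClosure htr s hs',
    not_isField_integralClosure htr s hs', isFractionRing_integralClosure htr s hs'⟩

theorem iSup_U : ⨆ i, U k i = ⊤ :=
  top_le_iff.mp fun p _ => TopologicalSpace.Opens.mem_iSup.mpr (exists_mem_U k p)

include hx0 in
theorem isFinite_fromNormalization [Algebra.EssFiniteType k K] (htr : Algebra.trdeg k K = 1)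
    (hx : Transcendental k x) : IsFinite (g k K x).fromNormalization :=
  isFinite_of_cover _ (U k) (isAffineOpen_U k) (iSup_U k) fun i =>
    finite_app_of_finite (g k K x) (isAffineOpen_U k i) (ε k K x hx0 i)
      (chart_props k K x hx0 htr hx i).1

include hx0 in
theorem isProper_structure [Algebra.EssFiniteType k K] (htr : Algebra.trdeg k K = 1)
    (hx : Transcendental k x) :
    IsProper ((g k K x).fromNormalization ≫ CohB1.ProjSpace.toSpec 1 k) := by
  haveI : IsProper (CohB1.ProjSpace.toSpec 1 k) :=
    Groth.Agent.Lib.Helper28.ProjSpaceBasic.isProper_toSpec 1 k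
  haveI := isFinite_fromNormalization k K x hx0 htr hx
  infer_instance

include hx0 in
theorem isNormal (x' : (g k K x).normalization) :
    IsDomain ((g k K x).normalization.presheaf.stalk x') ∧
      IsIntegrallyClosed ((g k K x).normalization.presheaf.stalk x') := by
  obtain ⟨i, hi⟩ := exists_mem_U k ((g k K x).fromNormalization x')
  haveI : IsDomain Γ(Spec (CommRingCat.of K), g k K x ⁻¹ᵁ U k i) :=
    (ε k K x hx0 i).toMulEquiv.isDomain _
  haveI : IsIntegrallyClosed Γ(Spec (CommRingCat.of K), g k K x ⁻¹ᵁ U k i) :=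
    IsIntegrallyClosed.of_equiv (ε k K x hx0 i).symm
  exact Groth.Agent.Lib.Helper13.Normalization.stalk_isIntegrallyClosed (g k K x)
    (isAffineOpen_U k i) x' hi

theorem ringKrullDim_eq_one_of_not_isField {R : Type*} [CommRing R] [IsDomain R]
    [h1 : Ring.KrullDimLE 1 R] (hn : ¬ IsField R) : ringKrullDim R = 1 := by
  have h0 : ¬ ringKrullDim R ≤ 0 := fun h => by
    have : Ring.KrullDimLE 0 R := Ring.krullDimLE_iff.mpr h
    exact hn Ring.KrullDimLE.isField_of_isDomain
  rw [Ring.krullDimLE_iff] at h1
  exact le_antisymm h1 (Order.succ_le_of_lt (lt_of_not_ge h0))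

include hx0 in
theorem ringKrullDim_stalk [Algebra.EssFiniteType k K] (htr : Algebra.trdeg k K = 1)
    (hx : Transcendental k x) (x' : (g k K x).normalization) (hcl : IsClosed ({x'} : Set _)) :
    ringKrullDim ((g k K x).normalization.presheaf.stalk x') = 1 := by
  obtain ⟨i, hi⟩ := exists_mem_U k ((g k K x).fromNormalization x')
  obtain ⟨V, hVdef⟩ : ∃ V : (g k K x).normalization.Opens,
      V = (g k K x).fromNormalization ⁻¹ᵁ U k i := ⟨_, rfl⟩
  have hV : IsAffineOpen V := hVdef ▸ (isAffineOpen_U k i).preimage (g k K x).fromNormalization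
  have hx' : x' ∈ V := hVdef ▸ hi
  haveI : Nonempty V := ⟨⟨x', hx'⟩⟩
  letI := chartAlgebra (g k K x) (ε k K x hx0 i)
  obtain ⟨-, hdim, hnf, -⟩ := chart_props k K x hx0 htr hx i
  have hE : ∃ E : Γ((g k K x).normalization, V) ≃+*
      integralClosure Γ(CohB1.ProjSpace 1 k, U k i) K, True := by
    subst hVdef
    exact ⟨chartEquiv (g k K x) (isAffineOpen_U k i) (ε k K x hx0 i), trivial⟩
  obtain ⟨E, -⟩ := hE
  haveI : Ring.DimensionLEOne Γ((g k K x).normalization, V) := Ring.DimensionLEOne.of_ringEquiv E
  have hnfΓ : ¬ IsField Γ((g k K x).normalization, V) :=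
    fun h => hnf (E.symm.toMulEquiv.isField h)
  letI := (g k K x).normalization.presheaf.algebra_section_stalk ⟨x', hx'⟩
  haveI := hV.isLocalization_stalk ⟨x', hx'⟩
  have hle : (hV.primeIdealOf ⟨x', hx'⟩).asIdeal.primeCompl ≤ nonZeroDivisors Γ((g k K x).normalization, V) := by
    intro a ha
    exact mem_nonZeroDivisors_of_ne_zero (fun h => ha (by simp [h]))
  haveI : Ring.DimensionLEOne ((g k K x).normalization.presheaf.stalk x') :=
    Ring.DimensionLEOne.localization ((g k K x).normalization.presheaf.stalk x') hle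
  have hmax : (hV.primeIdealOf ⟨x', hx'⟩).asIdeal.IsMaximal :=
    hV.primeIdealOf_isMaximal_of_isClosed ⟨x', hx'⟩ hcl
  apply ringKrullDim_eq_one_of_not_isField
  intro hf
  have hmz : IsLocalRing.maximalIdeal ((g k K x).normalization.presheaf.stalk x') = ⊥ :=
    IsLocalRing.isField_iff_maximalIdeal_eq.mp hf
  have hbot : (hV.primeIdealOf ⟨x', hx'⟩).asIdeal = ⊥ := by
    rw [eq_bot_iff]
    intro a ha
    have h1 : algebraMap Γ((g k K x).normalization, V)
        ((g k K x).normalization.presheaf.stalk x') a ∈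
        IsLocalRing.maximalIdeal ((g k K x).normalization.presheaf.stalk x') :=
      (IsLocalization.AtPrime.to_map_mem_maximal_iff ((g k K x).normalization.presheaf.stalk x')
        (hV.primeIdealOf ⟨x', hx'⟩).asIdeal a).mpr ha
    rw [hmz, Ideal.mem_bot] at h1
    rw [Ideal.mem_bot]
    exact (IsLocalization.injective ((g k K x).normalization.presheaf.stalk x') hle)
      (h1.trans (map_zero _).symm)
  rw [hbot] at hmax
  exact hnfΓ (Ring.isField_iff_maximal_bot.mpr hmax)

open Groth.Agent.Lib.Helper18.PtCount in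
include hx0 in
set_option backward.isDefEq.respectTransparency false in
theorem exists_functionField_equiv [Algebra.EssFiniteType k K] (htr : Algebra.trdeg k K = 1)
    (hx : Transcendental k x) :
    ∃ e : (g k K x).normalization.presheaf.stalk (genericPoint (g k K x).normalization) ≃+* K,
      ∀ c : k, e (((g k K x).normalization.presheaf.germ ⊤ (genericPoint _) trivial).hom
        (Coh.toGlobal ((g k K x).fromNormalization ≫ CohB1.ProjSpace.toSpec 1 k) c)) =
        algebraMap k K c := by
  have hU := isAffineOpen_U k 0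
  have hV : IsAffineOpen ((g k K x).fromNormalization ⁻¹ᵁ U k 0) :=
    hU.preimage (g k K x).fromNormalization
  haveI : Nonempty ((g k K x).fromNormalization ⁻¹ᵁ U k 0) := by
    obtain ⟨pt⟩ : Nonempty (Spec (CommRingCat.of K)) := inferInstance
    refine ⟨⟨(g k K x).toNormalization pt, ?_⟩⟩
    show (g k K x).fromNormalization ((g k K x).toNormalization pt) ∈ U k 0
    rw [← Scheme.Hom.comp_apply, (g k K x).toNormalization_fromNormalization]
    have : pt ∈ g k K x ⁻¹ᵁ U k 0 := by rw [g_preimage_U k K x hx0 0]; trivial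
    exact this
  letI := chartAlgebra (g k K x) (ε k K x hx0 0)
  obtain ⟨-, -, -, hfrac⟩ := chart_props k K x hx0 htr hx 0
  haveI := hfrac
  haveI := functionField_isFractionRing_of_isAffineOpen (g k K x).normalization _ hV
  let E := chartEquiv (g k K x) hU (ε k K x hx0 0)
  refine ⟨IsFractionRing.ringEquivOfRingEquiv (K := (g k K x).normalization.functionField) E, ?_⟩
  intro c
  have hmor : ((g k K x).fromNormalization ≫ CohB1.ProjSpace.toSpec 1 k).appTop ≫
      (g k K x).normalization.presheaf.map (homOfLE (le_top :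
        (g k K x).fromNormalization ⁻¹ᵁ U k 0 ≤ ⊤)).op =
      (CohB1.ProjSpace.toSpec 1 k).appLE ⊤ (U k 0) le_top ≫
        (g k K x).fromNormalization.app (U k 0) := by
    rw [Scheme.Hom.app_eq_appLE (f := (g k K x).fromNormalization), Scheme.Hom.appLE_comp_appLE]
    rfl
  have h1 : ((g k K x).normalization.presheaf.germ ⊤ (genericPoint _) trivial).hom
      (Coh.toGlobal ((g k K x).fromNormalization ≫ CohB1.ProjSpace.toSpec 1 k) c) =
      algebraMap Γ((g k K x).normalization, (g k K x).fromNormalization ⁻¹ᵁ U k 0)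
        (g k K x).normalization.functionField
        (((g k K x).fromNormalization.app (U k 0)).hom
          (cU (CohB1.ProjSpace.toSpec 1 k) (U k 0) c)) := by
    have h2 := congrArg (fun ψ => ψ.hom ((Scheme.ΓSpecIso (CommRingCat.of k)).inv.hom c)) hmor
    simp only [CommRingCat.hom_comp, RingHom.comp_apply] at h2
    show _ = ((g k K x).normalization.presheaf.germ _ (genericPoint _) _).hom
      (((g k K x).fromNormalization.app (U k 0)).hom
        ((((CohB1.ProjSpace.toSpec 1 k).appLE ⊤ (U k 0) le_top).hom)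
          ((Scheme.ΓSpecIso (CommRingCat.of k)).inv.hom c)))
    rw [← h2]
    have hmem : genericPoint (g k K x).normalization ∈ (g k K x).fromNormalization ⁻¹ᵁ U k 0 :=
      ((genericPoint_spec _).mem_open_set_iff ((g k K x).fromNormalization ⁻¹ᵁ U k 0).isOpen).mpr
        (by simpa using (inferInstance : Nonempty ((g k K x).fromNormalization ⁻¹ᵁ U k 0)))
    have hg := (g k K x).normalization.presheaf.germ_res
      (homOfLE (le_top : (g k K x).fromNormalization ⁻¹ᵁ U k 0 ≤ ⊤)) (genericPoint _) hmem
    have hg2 := congrArg (fun ψ => ψ.hom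
      (((g k K x).fromNormalization ≫ CohB1.ProjSpace.toSpec 1 k).appTop.hom
        ((Scheme.ΓSpecIso (CommRingCat.of k)).inv.hom c))) hg
    simp only [CommRingCat.hom_comp, RingHom.comp_apply] at hg2
    exact hg2.symm
  rw [h1, IsFractionRing.ringEquivOfRingEquiv_algebraMap]
  show ((E _ : integralClosure Γ(CohB1.ProjSpace 1 k, U k 0) K) : K) = _
  rw [chartEquiv_app]
  exact φ_cU k K x hx0 0 c

end Groth.Agent.Lib.Helper18.NormCurve
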