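import Groth.Agent.Lib.Helper18.NormCurve.ProjChart
import Groth.Agent.Lib.Helper28.ProjSpaceBasic
import Groth.Agent.Lib.Helper18.PtCount.Affine

/-! # The morphism `Spec K ⟶ P¹_k` attached to an element of `K`, on the two standard charts -/

set_option autoImplicit false
universe u
open CategoryTheory CategoryTheory.Limits AlgebraicGeometry Opposite TopologicalSpace
open HomogeneousLocalization AlgebraicGeometry.Proj
noncomputable section

namespace Groth.Agent.Lib.Helper18.NormCurve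

section gen

variable {R A : Type u} [CommRing R] [CommRing A] [Algebra R A] (𝒜 : ℕ → Submodule R A)
  [GradedAlgebra 𝒜]

theorem irrelevant_le_span {ι : Type*} (f : ι → A) (hfn : ∀ i, f i ∈ 𝒜 1)
    (hf : Algebra.adjoin R (Set.range f) = ⊤) :
    (HomogeneousIdeal.irrelevant 𝒜).toIdeal ≤ Ideal.span (Set.range f) := by
  intro x hx
  have h0 : x - GradedRing.projZeroRingHom 𝒜 x = x := by
    rw [GradedRing.projZeroRingHom_apply, ← GradedRing.proj_apply,
      (HomogeneousIdeal.mem_irrelevant_iff _ _).mp hx, sub_zero]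
  rw [← h0]
  clear hx h0
  have hmem : x ∈ Algebra.adjoin R (Set.range f) := by rw [hf]; trivial
  induction hmem using Algebra.adjoin_induction with
  | mem x hx =>
    obtain ⟨i, rfl⟩ := hx
    rw [GradedRing.projZeroRingHom_apply, DirectSum.decompose_of_mem_ne 𝒜 (hfn i) one_ne_zero,
      sub_zero]
    exact Ideal.subset_span ⟨_, rfl⟩
  | algebraMap r =>
    rw [GradedRing.projZeroRingHom_apply,
      DirectSum.decompose_of_mem_same 𝒜 (SetLike.algebraMap_mem_graded 𝒜 r), sub_self]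
    exact zero_mem _
  | add x y hx hy hx' hy' =>
    rw [map_add, add_sub_add_comm]
    exact add_mem hx' hy'
  | mul x y hx hy hx' hy' =>
    have : x * y - GradedRing.projZeroRingHom 𝒜 (x * y) =
        x * (y - GradedRing.projZeroRingHom 𝒜 y) +
          (x - GradedRing.projZeroRingHom 𝒜 x) * GradedRing.projZeroRingHom 𝒜 y := by
      rw [map_mul]; ring
    rw [this]
    exact add_mem (Ideal.mul_mem_left _ x hy') (Ideal.mul_mem_right _ _ hx')

theorem cover_of_adjoin {ι : Type*} (f : ι → A) (hfn : ∀ i, f i ∈ 𝒜 1)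
    (hf : Algebra.adjoin R (Set.range f) = ⊤) (p : Proj 𝒜) :
    ∃ i, p ∈ Proj.basicOpen 𝒜 (f i) := by
  have := Proj.iSup_basicOpen_eq_top 𝒜 f (irrelevant_le_span 𝒜 f hfn hf)
  have hp : p ∈ (⨆ i, Proj.basicOpen 𝒜 (f i)) := by rw [this]; trivial
  exact TopologicalSpace.Opens.mem_iSup.mp hp

end gen

variable (k K : Type u) [Field k] [Field K] [Algebra k K] (x : K)

/-- `T₀ ↦ 1`, `T₁ ↦ x`. -/
def f₀ : MvPolynomial (Fin 2) k →+* K := (MvPolynomial.aeval ![1, x]).toRingHom

@[simp] theorem f₀_X0 : f₀ k K x (MvPolynomial.X 0) = 1 := by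
  simp [f₀]

@[simp] theorem f₀_X1 : f₀ k K x (MvPolynomial.X 1) = x := by
  simp [f₀]

theorem f₀_C (c : k) : f₀ k K x (MvPolynomial.C c) = algebraMap k K c := by
  simp [f₀]

def fΓ : MvPolynomial (Fin 2) k →+* Γ(Spec (CommRingCat.of K), ⊤) :=
  (Scheme.ΓSpecIso (CommRingCat.of K)).inv.hom.comp (f₀ k K x)

theorem X_mem (i : Fin 2) :
    (MvPolynomial.X i : MvPolynomial (Fin 2) k) ∈ CohB1.polyGrading 1 k 1 :=
  MvPolynomial.isHomogeneous_X _ _

theorem hfΓ : (HomogeneousIdeal.irrelevant (CohB1.polyGrading 1 k)).toIdeal.map (fΓ k K x) = ⊤ := by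
  rw [Ideal.eq_top_iff_one]
  have h1 : (MvPolynomial.X 0 : MvPolynomial (Fin 2) k) ∈
      (HomogeneousIdeal.irrelevant (CohB1.polyGrading 1 k)).toIdeal :=
    HomogeneousIdeal.mem_irrelevant_of_mem _ one_pos (X_mem k 0)
  have h2 := Ideal.mem_map_of_mem (fΓ k K x) h1
  have h3 : fΓ k K x (MvPolynomial.X 0) = 1 := by
    rw [fΓ, RingHom.comp_apply, f₀_X0, map_one]
  rwa [h3] at h2

/-- The morphism `Spec K ⟶ P¹_k` given by `x`. -/
def g : Spec (CommRingCat.of K) ⟶ CohB1.ProjSpace 1 k :=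
  Proj.fromOfGlobalSections (CohB1.polyGrading 1 k) (fΓ k K x) (hfΓ k K x)

set_option backward.isDefEq.respectTransparency false in
theorem g_toSpec : g k K x ≫ CohB1.ProjSpace.toSpec 1 k =
    Spec.map (CommRingCat.ofHom (algebraMap k K)) := by
  rw [CohB1.ProjSpace.toSpec, g, Proj.fromOfGlobalSections_toSpecZero_assoc, ← Spec.map_comp,
    ← CommRingCat.ofHom_comp]
  have h : ((fΓ k K x).comp (algebraMap (CohB1.polyGrading 1 k 0) (MvPolynomial (Fin 2) k))).comp
      (algebraMap k (CohB1.polyGrading 1 k 0)) =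
      (Scheme.ΓSpecIso (CommRingCat.of K)).inv.hom.comp (algebraMap k K) := by
    ext c
    show fΓ k K x (MvPolynomial.C c) = _
    rw [fΓ, RingHom.comp_apply, f₀_C]
    rfl
  rw [h, CommRingCat.ofHom_comp, Spec.map_comp, CommRingCat.ofHom_hom,
    toSpecΓ_SpecMap_ΓSpecIso_inv_assoc]

/-- The standard charts of `P¹`. -/
def U (i : Fin 2) : (CohB1.ProjSpace 1 k).Opens :=
  Proj.basicOpen (CohB1.polyGrading 1 k) (MvPolynomial.X i)

theorem isAffineOpen_U (i : Fin 2) : IsAffineOpen (U k i) :=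
  Proj.isAffineOpen_basicOpen _ _ (X_mem k i) one_pos

theorem exists_mem_U (p : CohB1.ProjSpace 1 k) : ∃ i, p ∈ U k i :=
  cover_of_adjoin (CohB1.polyGrading 1 k) (fun i : Fin 2 => (MvPolynomial.X i : MvPolynomial (Fin 2) k))
    (X_mem k) (MvPolynomial.adjoin_range_X) p

theorem ΓSpecIso_hom_fΓ (a : MvPolynomial (Fin 2) k) :
    (Scheme.ΓSpecIso (CommRingCat.of K)).hom.hom (fΓ k K x a) = f₀ k K x a := by
  rw [fΓ, RingHom.comp_apply]
  exact congrArg (fun φ => φ.hom (f₀ k K x a)) (Scheme.ΓSpecIso (CommRingCat.of K)).inv_hom_id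

theorem isUnit_fΓ_X (hx : x ≠ 0) (i : Fin 2) : IsUnit (fΓ k K x (MvPolynomial.X i)) := by
  rw [fΓ, RingHom.comp_apply]
  apply IsUnit.map
  fin_cases i
  · show IsUnit (f₀ k K x (MvPolynomial.X 0)); rw [f₀_X0]; exact isUnit_one
  · show IsUnit (f₀ k K x (MvPolynomial.X 1)); rw [f₀_X1]; exact isUnit_iff_ne_zero.mpr hx

theorem g_preimage_U (hx : x ≠ 0) (i : Fin 2) : g k K x ⁻¹ᵁ U k i = ⊤ := by
  have h := Proj.fromOfGlobalSections_preimage_basicOpen (CohB1.polyGrading 1 k) (fΓ k K x)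
    (hfΓ k K x) one_pos (X_mem k i)
  exact h.trans (Scheme.basicOpen_of_isUnit _ (isUnit_fΓ_X k K x hx i))

/-- Sections of `Spec K` over an open equal to the whole space. -/
def secEquiv (V : (Spec (CommRingCat.of K)).Opens) (hV : V = ⊤) :
    Γ(Spec (CommRingCat.of K), V) ≃+* K :=
  ((Spec (CommRingCat.of K)).presheaf.mapIso (eqToIso (by rw [hV])).op ≪≫
    Scheme.ΓSpecIso (CommRingCat.of K)).commRingCatIsoToRingEquiv

theorem secEquiv_top (y : Γ(Spec (CommRingCat.of K), ⊤)) :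
    secEquiv K ⊤ rfl y = (Scheme.ΓSpecIso (CommRingCat.of K)).hom.hom y := by
  simp [secEquiv]
  rfl

theorem secEquiv_map {V V' : (Spec (CommRingCat.of K)).Opens} (hV : V = ⊤) (hV' : V' = ⊤)
    (h : V' ≤ V) (y : Γ(Spec (CommRingCat.of K), V)) :
    secEquiv K V' hV' ((Spec (CommRingCat.of K)).presheaf.map (homOfLE h).op y) =
      secEquiv K V hV y := by
  subst hV
  subst hV'
  simp [secEquiv]

/-- The ring map `Γ(P¹, U i) → K` induced by `g`. -/
def φ (hx : x ≠ 0) (i : Fin 2) : Γ(CohB1.ProjSpace 1 k, U k i) →+* K :=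
  (secEquiv K _ (g_preimage_U k K x hx i)).toRingHom.comp ((g k K x).app (U k i)).hom

/-- The section `T_j / T_i` on the chart `U i`. -/
def sec (i j : Fin 2) : Γ(CohB1.ProjSpace 1 k, U k i) :=
  (Proj.awayToSection (CohB1.polyGrading 1 k) (MvPolynomial.X i)).hom
    (Away.mk _ (X_mem k i) 1 (MvPolynomial.X j) (by simpa using X_mem k j))

theorem φ_sec (hx : x ≠ 0) (i j : Fin 2) :
    φ k K x hx i (sec k i j) * f₀ k K x (MvPolynomial.X i) = f₀ k K x (MvPolynomial.X j) := by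
  have hW : (Spec (CommRingCat.of K)).basicOpen (fΓ k K x (MvPolynomial.X i)) = ⊤ :=
    Scheme.basicOpen_of_isUnit _ (isUnit_fΓ_X k K x hx i)
  have h := chart_formula (CohB1.polyGrading 1 k) (fΓ k K x) (hfΓ k K x) one_pos (X_mem k i) 1
    (MvPolynomial.X j) (by simpa using X_mem k j)
  rw [pow_one] at h
  have h' := congrArg (secEquiv K _ hW) h
  rw [map_mul, secEquiv_map K rfl hW le_top, secEquiv_map K rfl hW le_top, secEquiv_top,
    secEquiv_top, ΓSpecIso_hom_fΓ, ΓSpecIso_hom_fΓ] at h'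
  rw [← h']
  congr 1

open Groth.Agent.Lib.Helper18.PtCount in
set_option backward.isDefEq.respectTransparency false in
theorem φ_cU (hx : x ≠ 0) (i : Fin 2) (c : k) :
    φ k K x hx i (cU (CohB1.ProjSpace.toSpec 1 k) (U k i) c) = algebraMap k K c := by
  set π := CohB1.ProjSpace.toSpec 1 k with hπ
  set V := g k K x ⁻¹ᵁ U k i with hV
  have hVtop : V = ⊤ := g_preimage_U k K x hx i
  have h1 : π.appLE ⊤ (U k i) le_top ≫ (g k K x).app (U k i) =
      (Spec.map (CommRingCat.ofHom (algebraMap k K))).appLE ⊤ V le_top := by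
    rw [← Scheme.Hom.appLE_eq_app, Scheme.Hom.appLE_comp_appLE]
    exact Groth.Agent.Lib.Helper28.ProjSect.appLE_congr' (g_toSpec k K x) _ _ _ _
  have h2 : (g k K x).app (U k i) ((π.appLE ⊤ (U k i) le_top).hom
      ((Scheme.ΓSpecIso (CommRingCat.of k)).inv.hom c)) =
      ((Spec.map (CommRingCat.ofHom (algebraMap k K))).appLE ⊤ V le_top).hom
        ((Scheme.ΓSpecIso (CommRingCat.of k)).inv.hom c) :=
    congrArg (fun ψ => ψ.hom ((Scheme.ΓSpecIso (CommRingCat.of k)).inv.hom c)) h1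
  have h3 : (Spec.map (CommRingCat.ofHom (algebraMap k K))).appTop.hom
      ((Scheme.ΓSpecIso (CommRingCat.of k)).inv.hom c) =
      (Scheme.ΓSpecIso (CommRingCat.of K)).inv.hom (algebraMap k K c) :=
    (congrArg (fun ψ => ψ.hom c)
      (Scheme.ΓSpecIso_inv_naturality (CommRingCat.ofHom (algebraMap k K)))).symm
  show secEquiv K V hVtop ((g k K x).app (U k i) ((π.appLE ⊤ (U k i) le_top).hom
      ((Scheme.ΓSpecIso (CommRingCat.of k)).inv.hom c))) = _
  rw [h2]
  show secEquiv K V hVtop ((Spec (CommRingCat.of K)).presheaf.map (homOfLE le_top).op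
    ((Spec.map (CommRingCat.ofHom (algebraMap k K))).appTop.hom
      ((Scheme.ΓSpecIso (CommRingCat.of k)).inv.hom c))) = _
  rw [secEquiv_map K rfl hVtop, secEquiv_top, h3]
  exact congrArg (fun ψ => ψ.hom (algebraMap k K c)) (Scheme.ΓSpecIso (CommRingCat.of K)).inv_hom_id

theorem exists_transcendental_φ (hx : Transcendental k x) (hx0 : x ≠ 0) (i : Fin 2) :
    ∃ s : Γ(CohB1.ProjSpace 1 k, U k i), Transcendental k (φ k K x hx0 i s) := by
  fin_cases i
  · refine ⟨sec k 0 1, ?_⟩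
    have h := φ_sec k K x hx0 0 1
    rw [f₀_X0, f₀_X1, mul_one] at h
    show Transcendental k (φ k K x hx0 0 (sec k 0 1))
    rw [h]; exact hx
  · refine ⟨sec k 1 0, ?_⟩
    have h := φ_sec k K x hx0 1 0
    rw [f₀_X0, f₀_X1] at h
    show Transcendental k (φ k K x hx0 1 (sec k 1 0))
    have h2 : φ k K x hx0 1 (sec k 1 0) = x⁻¹ := eq_inv_of_mul_eq_one_left h
    rw [h2]
    intro halg
    exact hx (by simpa using halg.inv)

end Groth.Agent.Lib.Helper18.NormCurve
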