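import Mathlib
import Groth.Agent.Lib.Helper28.ProjSect

/-! # The morphism to `Proj` defined by global sections, on the standard charts -/

set_option autoImplicit false
universe u
open CategoryTheory CategoryTheory.Limits AlgebraicGeometry Opposite TopologicalSpace
open HomogeneousLocalization AlgebraicGeometry.Proj
noncomputable section

namespace Groth.Agent.Lib.Helper18.NormCurve

variable {A σ : Type u} [CommRing A] [SetLike σ A] [AddSubgroupClass σ A] (𝒜 : ℕ → σ) [GradedRing 𝒜]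
variable {X : Scheme.{u}} (f : A →+* Γ(X, ⊤))
  (hf : (HomogeneousIdeal.irrelevant 𝒜).toIdeal.map f = ⊤)

/-- The ring map `A_(t) → Γ(X,⊤)[1/f t]`. -/
def awayHom (t : A) : Away 𝒜 t →+* Localization.Away (f t) :=
  (IsLocalization.map (M := .powers t) (T := .powers (f t)) _ f (by
    rw [← Submonoid.map_le_iff_le_comap, Submonoid.map_powers])).comp
    (algebraMap (Away 𝒜 t) (Localization.Away t))

/-- The canonical morphism `D(f t) ⟶ Spec Γ(X,⊤)[1/f t]`. -/
def toSpecAway (t : A) : (X.basicOpen (f t)).toScheme ⟶ Spec (.of (Localization.Away (f t))) :=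
  (X.isoOfEq (X.toSpecΓ_preimage_basicOpen (f t))).inv ≫ X.toSpecΓ ∣_ _ ≫
    (basicOpenIsoSpecAway (f t)).hom

set_option backward.isDefEq.respectTransparency false in
theorem toSpecAway_SpecMap (t : A) :
    toSpecAway f t ≫ Spec.map (CommRingCat.ofHom (algebraMap Γ(X, ⊤) (Localization.Away (f t)))) =
      (X.basicOpen (f t)).ι ≫ X.toSpecΓ := by
  rw [toSpecAway, Category.assoc, Category.assoc, basicOpenIsoSpecAway_hom_SpecMap,
    morphismRestrict_ι, Scheme.isoOfEq_inv_ι_assoc]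

set_option backward.isDefEq.respectTransparency false in
theorem ι_fromOfGlobalSections {t : A} {d : ℕ} (hd : 0 < d) (ht : t ∈ 𝒜 d) :
    (X.basicOpen (f t)).ι ≫ fromOfGlobalSections 𝒜 f hf =
      toSpecAway f t ≫ Spec.map (CommRingCat.ofHom (awayHom 𝒜 f t)) ≫ awayι 𝒜 t ht hd := by
  rw [← Scheme.Hom.resLE_comp_ι _ (fromOfGlobalSections_preimage_basicOpen 𝒜 f hf hd ht).ge,
    fromOfGlobalSections_resLE 𝒜 f hf hd ht]
  simp only [toBasicOpenOfGlobalSections, Category.assoc, basicOpenIsoSpec_inv_ι]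
  rfl

/-- The canonical ring map `Γ(X,⊤)[1/f t] → Γ(X, D(f t))`. -/
def awayToΓ (t : A) : CommRingCat.of (Localization.Away (f t)) ⟶ Γ(X, X.basicOpen (f t)) :=
  (Scheme.ΓSpecIso (.of (Localization.Away (f t)))).inv ≫ (toSpecAway f t).appTop ≫
    (X.basicOpen (f t)).topIso.hom

set_option backward.isDefEq.respectTransparency false in
theorem algebraMap_awayToΓ (t : A) :
    CommRingCat.ofHom (algebraMap Γ(X, ⊤) (Localization.Away (f t))) ≫ awayToΓ f t =
      X.presheaf.map (homOfLE le_top).op := by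
  have h := congrArg Scheme.Hom.appTop (toSpecAway_SpecMap f t)
  rw [Scheme.Hom.comp_appTop, Scheme.Hom.comp_appTop, Scheme.toSpecΓ_appTop] at h
  rw [awayToΓ, Scheme.ΓSpecIso_inv_naturality_assoc, reassoc_of% h]
  erw [Iso.inv_hom_id_assoc]
  simp [Scheme.Opens.topIso_hom, Scheme.Hom.appTop, Scheme.Opens.ι_app, ← Functor.map_comp]

theorem comp_appLE_top {X Y Z : Scheme.{u}} (a : X ⟶ Y) (b : Y ⟶ Z) (U : Z.Opens)
    (h' : ⊤ ≤ b ⁻¹ᵁ U) (h : ⊤ ≤ (a ≫ b) ⁻¹ᵁ U) :
    (a ≫ b).appLE U ⊤ h = b.appLE U ⊤ h' ≫ a.appTop := by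
  rw [← Scheme.Hom.appLE_comp_appLE _ _ U ⊤ ⊤ h' le_top]
  congr 1
  exact Scheme.Hom.appLE_eq_app a

open Groth.Agent.Lib.Helper28.ProjSect in
set_option backward.isDefEq.respectTransparency false in
theorem awayToSection_appLE_fromOfGlobalSections {t : A} {d : ℕ} (hd : 0 < d) (ht : t ∈ 𝒜 d) :
    awayToSection 𝒜 t ≫ (fromOfGlobalSections 𝒜 f hf).appLE (basicOpen 𝒜 t) (X.basicOpen (f t))
      (fromOfGlobalSections_preimage_basicOpen 𝒜 f hf hd ht).ge =
      CommRingCat.ofHom (awayHom 𝒜 f t) ≫ awayToΓ f t := by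
  set g := fromOfGlobalSections 𝒜 f hf with hg
  set W := X.basicOpen (f t) with hW
  have hle : W ≤ g ⁻¹ᵁ basicOpen 𝒜 t := (fromOfGlobalSections_preimage_basicOpen 𝒜 f hf hd ht).ge
  have h5 : W.ι.appLE W ⊤ (by simp) = W.topIso.inv := by
    rw [Scheme.Opens.ι_appLE, Scheme.Opens.topIso_inv]
    rfl
  have h1 : g.appLE (basicOpen 𝒜 t) W hle =
      (W.ι ≫ g).appLE (basicOpen 𝒜 t) ⊤ (by
        rw [Scheme.Hom.comp_preimage]; intro x _; exact hle x.2) ≫ W.topIso.hom := by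
    rw [← Scheme.Hom.appLE_comp_appLE _ _ (basicOpen 𝒜 t) W ⊤ hle (by simp), h5, Category.assoc,
      Iso.inv_hom_id, Category.comp_id]
  have hK := awayToSection_appLE 𝒜 hd ht
  rw [h1, appLE_congr' (ι_fromOfGlobalSections 𝒜 f hf hd ht) (basicOpen 𝒜 t) ⊤ _
      (by rw [Scheme.Hom.comp_preimage, Scheme.Hom.comp_preimage, awayι_preimage_self]; exact le_rfl)]
  have h2 : (toSpecAway f t ≫ Spec.map (CommRingCat.ofHom (awayHom 𝒜 f t)) ≫
      awayι 𝒜 t ht hd).appLE (basicOpen 𝒜 t) ⊤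
      (by rw [Scheme.Hom.comp_preimage, Scheme.Hom.comp_preimage, awayι_preimage_self]; exact le_rfl) =
      (awayι 𝒜 t ht hd).appLE (basicOpen 𝒜 t) ⊤ (by rw [awayι_preimage_self]) ≫
        (Spec.map (CommRingCat.ofHom (awayHom 𝒜 f t))).appTop ≫ (toSpecAway f t).appTop := by
    rw [comp_appLE_top (toSpecAway f t) _ (basicOpen 𝒜 t)
      (by rw [Scheme.Hom.comp_preimage, awayι_preimage_self]; exact le_rfl),
      comp_appLE_top _ (awayι 𝒜 t ht hd) (basicOpen 𝒜 t) (by rw [awayι_preimage_self]),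
      Category.assoc]
  rw [h2, ← Category.assoc, ← Category.assoc, hK]
  simp only [Category.assoc]
  rw [← Scheme.ΓSpecIso_inv_naturality_assoc, awayToΓ]

theorem awayHom_mk_mul {t : A} {d : ℕ} (ht : t ∈ 𝒜 d) (n : ℕ) (a : A) (ha : a ∈ 𝒜 (n • d)) :
    awayHom 𝒜 f t (Away.mk 𝒜 ht n a ha) * algebraMap Γ(X, ⊤) (Localization.Away (f t)) (f t) ^ n =
      algebraMap Γ(X, ⊤) (Localization.Away (f t)) (f a) := by
  have h1 : algebraMap (Away 𝒜 t) (Localization.Away t) (Away.mk 𝒜 ht n a ha) =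
      IsLocalization.mk' (Localization.Away t) a (⟨t ^ n, n, rfl⟩ : Submonoid.powers t) := by
    rw [HomogeneousLocalization.algebraMap_apply, Away.val_mk, Localization.mk_eq_mk']
  rw [awayHom, RingHom.comp_apply, h1, IsLocalization.map_mk', ← map_pow, ← map_pow]
  exact IsLocalization.mk'_spec _ _ _

theorem chart_formula {t : A} {d : ℕ} (hd : 0 < d) (ht : t ∈ 𝒜 d) (n : ℕ) (a : A)
    (ha : a ∈ 𝒜 (n • d)) :
    ((fromOfGlobalSections 𝒜 f hf).appLE (basicOpen 𝒜 t) (X.basicOpen (f t))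
        (fromOfGlobalSections_preimage_basicOpen 𝒜 f hf hd ht).ge).hom
        ((awayToSection 𝒜 t).hom (Away.mk 𝒜 ht n a ha)) *
      ((X.presheaf.map (homOfLE le_top).op).hom (f t)) ^ n =
      (X.presheaf.map (homOfLE (le_top : X.basicOpen (f t) ≤ ⊤)).op).hom (f a) := by
  have h1 := awayToSection_appLE_fromOfGlobalSections 𝒜 f hf hd ht
  have h2 := algebraMap_awayToΓ f t
  have e1 : ((fromOfGlobalSections 𝒜 f hf).appLE (basicOpen 𝒜 t) (X.basicOpen (f t))
        (fromOfGlobalSections_preimage_basicOpen 𝒜 f hf hd ht).ge).hom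
        ((awayToSection 𝒜 t).hom (Away.mk 𝒜 ht n a ha)) =
      (awayToΓ f t).hom (awayHom 𝒜 f t (Away.mk 𝒜 ht n a ha)) :=
    congrArg (fun φ => φ.hom (Away.mk 𝒜 ht n a ha)) h1
  have e2 : ∀ y : Γ(X, ⊤), (X.presheaf.map (homOfLE (le_top : X.basicOpen (f t) ≤ ⊤)).op).hom y =
      (awayToΓ f t).hom (algebraMap Γ(X, ⊤) (Localization.Away (f t)) y) := fun y =>
    (congrArg (fun φ => φ.hom y) h2).symm
  rw [e1, e2, e2, ← map_pow, ← map_mul, awayHom_mk_mul]

end Groth.Agent.Lib.Helper18.NormCurve
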